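import Mathlib

/-!
# Fixed vectors reduced at p

If a nonzero vector fixed by `H` has zero sum over the group and a `p`-subgroup `P ≤ H` acts
semiregularly on the cosets of `H` other than `H`, then the orbit of the vector spans at least
`|P|` dimensions.
-/

set_option autoImplicit false

namespace CfsgLib.TILattice

/-- In characteristic `p`, a vector whose sum over a `p`-group is nonzero generates a free module. -/
theorem linearIndependent_orbit_of_sum_ne_zero {p : ℕ} [Fact p.Prime] {k : Type*} [Field k]
    [CharP k p] {P : Type*} [Group P] [Fintype P] (hP : IsPGroup p P) {M : Type*} [AddCommGroup M]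
    [Module k M] (f : P →* Module.End k M) (w : M) (h : ∑ x : P, f x w ≠ 0) :
    LinearIndependent k (fun x : P => f x w) := by
  classical
  rw [Fintype.linearIndependent_iff]
  intro c hc
  by_contra hne
  push Not at hne
  obtain ⟨x0, hx0⟩ := hne
  set Φ : (P → ZMod p) → (P → k) :=
    fun d x => ∑ y : P, ZMod.castHom dvd_rfl k (d y) * c (y⁻¹ * x) with hΦ
  set A : Set (P → k) := Set.range Φ with hA
  have : Finite A := (Set.finite_range Φ).to_subtype
  let act : MulAction P A :=
    { smul := fun z a => ⟨fun x => (a : P → k) (z⁻¹ * x), by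
        obtain ⟨d, hd⟩ := a.2
        refine ⟨fun y => d (z⁻¹ * y), funext fun x => ?_⟩
        show _ = (a : P → k) (z⁻¹ * x)
        rw [← hd]
        refine Fintype.sum_equiv (Equiv.mulLeft z⁻¹) _ _ fun y => ?_
        simp [mul_assoc]⟩
      one_smul := fun a => Subtype.ext (funext fun x => by
        show (a : P → k) ((1 : P)⁻¹ * x) = _; simp)
      mul_smul := fun y z a => Subtype.ext (funext fun x => by
        show (a : P → k) ((y * z)⁻¹ * x) = (a : P → k) (z⁻¹ * (y⁻¹ * x))
        simp [mul_assoc]) }
  have hK : ∀ a ∈ A, ∑ x : P, a x • f x w = 0 := by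
    rintro _ ⟨d, rfl⟩
    simp only [hΦ, Finset.sum_smul, mul_smul]
    rw [Finset.sum_comm]
    refine Finset.sum_eq_zero fun y _ => ?_
    rw [← Finset.smul_sum]
    have h1 : ∑ x : P, c (y⁻¹ * x) • f x w = ∑ x : P, c x • f (y * x) w :=
      Fintype.sum_equiv (Equiv.mulLeft y⁻¹) _ _ fun x => by simp
    rw [h1]
    have h2 : ∑ x : P, c x • f (y * x) w = f y (∑ x : P, c x • f x w) := by
      simp [map_sum, map_mul, Module.End.mul_apply]
    rw [h2, hc]; simp
  have h0 : (0 : P → k) ∈ A := ⟨0, by funext x; simp [hΦ]⟩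
  have hc0 : c ∈ A := ⟨Pi.single 1 1, by
    funext x
    rw [hΦ]
    simp only
    rw [Finset.sum_eq_single 1]
    · simp
    · intro b _ hb; simp [Pi.single_eq_of_ne hb]
    · simp⟩
  have hcard : p ∣ Nat.card A := by
    let Ψ : (P → ZMod p) →+ (P → k) :=
      { toFun := Φ
        map_zero' := by funext x; simp [hΦ]
        map_add' := fun a b => by funext x; simp [hΦ, add_mul, Finset.sum_add_distrib] }
    have hr : Nat.card A = Nat.card Ψ.range := rfl
    rw [hr]
    have hdvd : Nat.card Ψ.range ∣ p ^ Fintype.card P := by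
      have := AddSubgroup.card_range_dvd Ψ
      simpa [Nat.card_fun] using this
    obtain ⟨j, -, hj⟩ := (Nat.dvd_prime_pow Fact.out).1 hdvd
    rw [hj]
    rcases Nat.eq_zero_or_pos j with rfl | hjpos
    · exfalso
      rw [pow_zero, ← hr] at hj
      have := (Nat.card_eq_one_iff_unique.1 hj).1
      have := congrArg Subtype.val (Subsingleton.elim (⟨c, hc0⟩ : A) ⟨0, h0⟩)
      exact hx0 (congrFun this x0)
    · exact dvd_pow_self p hjpos.ne'
  have hfix0 : (⟨0, h0⟩ : A) ∈ MulAction.fixedPoints P A :=
    fun z => Subtype.ext rfl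
  obtain ⟨a, ha, hane⟩ := hP.exists_fixed_point_of_prime_dvd_card_of_fixed_point A hcard hfix0
  have hconst : ∀ x, (a : P → k) x = (a : P → k) 1 := fun x => by
    have := congrFun (congrArg Subtype.val (ha x)) x
    have h' : (a : P → k) (x⁻¹ * x) = (a : P → k) x := this
    rw [inv_mul_cancel] at h'
    exact h'.symm
  have ha1 : (a : P → k) 1 ≠ 0 := fun he => hane (Subtype.ext (funext fun x => by
    rw [hconst x, he]; rfl))
  have := hK a a.2
  simp only [hconst, ← Finset.smul_sum, smul_eq_zero] at this
  exact this.elim ha1 h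

/-- A valuation ring of `ℂ` in which `p` is not a unit. -/
theorem exists_valuationSubring_p (p : ℕ) [Fact p.Prime] :
    ∃ B : ValuationSubring ℂ, (p : B) ∈ IsLocalRing.maximalIdeal B := by
  let S : Subring ℂ := (Int.castRingHom ℂ).range
  let e : ℤ ≃+* S := RingEquiv.ofBijective (Int.castRingHom ℂ).rangeRestrict
    ⟨fun a b h => Int.cast_injective (congrArg Subtype.val h),
      (Int.castRingHom ℂ).rangeRestrict_surjective⟩
  let I : Ideal S := (Ideal.span {(p : ℤ)}).map e
  have hI0 : (Ideal.span {(p : ℤ)}).IsPrime := by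
    rw [Ideal.span_singleton_prime (by exact_mod_cast (Fact.out : p.Prime).ne_zero)]
    exact Nat.prime_iff_prime_int.1 Fact.out
  have : I.IsPrime := Ideal.map_isPrime_of_equiv e
  obtain ⟨B, hB⟩ := (LocalSubring.ofPrime S I).exists_le_valuationSubring
  refine ⟨B, ?_⟩
  rw [IsLocalRing.mem_maximalIdeal, mem_nonunits_iff]
  intro hu
  have hp : (p : S) ∈ I := by
    have := Ideal.mem_map_of_mem e (Ideal.mem_span_singleton_self (p : ℤ))
    simpa using this
  have h1 : (p : (LocalSubring.ofPrime S I).toSubring) ∈ IsLocalRing.maximalIdeal _ := by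
    rw [← IsLocalization.AtPrime.map_eq_maximalIdeal I]
    have := Ideal.mem_map_of_mem (algebraMap S (LocalSubring.ofPrime S I).toSubring) hp
    simpa using this
  rw [IsLocalRing.mem_maximalIdeal, mem_nonunits_iff] at h1
  refine h1 (hB.2.1 _ ?_)
  rw [map_natCast]
  exact hu

/-- Modulo a maximal ideal over `p`, a vector with nonzero `P`-sum has independent translates. -/
theorem mem_of_sum_smul_eq_zero {p : ℕ} [Fact p.Prime] {R : Type*} [CommRing R] (m : Ideal R)
    [m.IsMaximal] [CharP (R ⧸ m) p] {P : Type*} [Group P] [Fintype P] (hP : IsPGroup p P)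
    {M : Type*} [AddCommGroup M] [Module R M] (act : P →* Module.End R M) (w : M)
    (hw : ∑ x : P, act x w ∉ (m • ⊤ : Submodule R M)) (c : P → R)
    (hc : ∑ x : P, c x • act x w = 0) (x : P) : c x ∈ m := by
  set N : Submodule R M := m • ⊤ with hN
  have hle : ∀ z : P, N ≤ N.comap (act z) := fun z => by
    rw [← Submodule.map_le_iff_le_comap, hN, Submodule.map_smul'']
    exact Submodule.smul_mono le_rfl le_top
  let f : P →* Module.End (R ⧸ m) (M ⧸ N) :=
    { toFun := fun z =>
        { toFun := Submodule.mapQ N N (act z) (hle z)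
          map_add' := map_add _
          map_smul' := fun a u => by
            obtain ⟨a, rfl⟩ := Ideal.Quotient.mk_surjective a
            obtain ⟨u, rfl⟩ := Submodule.Quotient.mk_surjective _ u
            show Submodule.Quotient.mk (act z (a • u)) = Submodule.Quotient.mk (a • act z u)
            rw [map_smul] }
      map_one' := by
        refine LinearMap.ext fun u => ?_
        obtain ⟨u, rfl⟩ := Submodule.Quotient.mk_surjective N u
        show (Submodule.Quotient.mk (act 1 u) : M ⧸ N) = Submodule.Quotient.mk u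
        rw [map_one]; rfl
      map_mul' := fun z y => by
        refine LinearMap.ext fun u => ?_
        obtain ⟨u, rfl⟩ := Submodule.Quotient.mk_surjective N u
        show (Submodule.Quotient.mk (act (z * y) u) : M ⧸ N) = Submodule.Quotient.mk (act z (act y u))
        rw [map_mul]; rfl }
  have hfw : ∀ z : P, f z (N.mkQ w) = N.mkQ (act z w) := fun z => rfl
  have hne : ∑ z : P, f z (N.mkQ w) ≠ 0 := by
    simp only [hfw, ← map_sum]
    intro h0
    exact hw ((Submodule.Quotient.mk_eq_zero N).1 h0)
  have hli : LinearIndependent (R ⧸ m) (fun z : P => f z (N.mkQ w)) :=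
    @linearIndependent_orbit_of_sum_ne_zero p _ (R ⧸ m) (Ideal.Quotient.field m) _ P _ _ hP (M ⧸ N)
      _ _ f (N.mkQ w) hne
  have h2 : ∑ z : P, Ideal.Quotient.mk m (c z) • f z (N.mkQ w) = 0 := by
    have h3 := congrArg N.mkQ hc
    rw [map_sum, map_zero] at h3
    exact h3
  exact Ideal.Quotient.eq_zero_iff_mem.1 (Fintype.linearIndependent_iff.1 hli _ h2 x)

/-- A `P`-trace `-v` of a nonzero vector `v` in the lattice spanned by its orbit has independent
translates. -/
theorem linearIndependent_translates {G : Type*} [Group G] [Fintype G] {p : ℕ} [Fact p.Prime]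
    (B : ValuationSubring ℂ) (hpB : (p : B) ∈ IsLocalRing.maximalIdeal B)
    (P : Subgroup G) [Fintype P] (hP : IsPGroup p P)
    {V : Type*} [AddCommGroup V] [Module ℂ V] [FiniteDimensional ℂ V]
    (ρ : Representation ℂ G V) (v w : V) (hv : v ≠ 0) (hkey : -v = ∑ x : P, ρ x w)
    (hwL : w ∈ Submodule.span B (Set.range fun g : G => ρ g v)) :
    LinearIndependent ℂ (fun x : P => ρ x w) := by
  classical
  set m := IsLocalRing.maximalIdeal B with hm
  have : CharP (B ⧸ m) p := by
    refine (CharP.charP_iff_prime_eq_zero Fact.out).2 ?_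
    rw [← map_natCast (Ideal.Quotient.mk m), Ideal.Quotient.eq_zero_iff_mem]
    exact hpB
  -- the lattice
  let L : Submodule B V := Submodule.span B (Set.range fun g : G => ρ g v)
  have hvL : v ∈ L := Submodule.subset_span ⟨1, by simp⟩
  have hstab : ∀ (g : G) (u : V), u ∈ L → ρ g u ∈ L := by
    intro g u hu
    induction hu using Submodule.span_induction with
    | mem x hx =>
      obtain ⟨g', rfl⟩ := hx
      exact Submodule.subset_span ⟨g * g', by simp [map_mul]⟩
    | zero => simp
    | add x y _ _ hx hy => rw [map_add]; exact add_mem hx hy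
    | smul a x _ hx => rw [LinearMap.map_smul_of_tower]; exact L.smul_mem a hx
  have hnot : v ∉ m • L := by
    intro hvm
    have hle : L ≤ m • L := by
      refine Submodule.span_le.2 ?_
      rintro _ ⟨g, rfl⟩
      refine Submodule.smul_induction_on hvm (fun a ha x hx => ?_) (fun x y hx hy => ?_)
      · show ρ g (a • x) ∈ m • L
        rw [LinearMap.map_smul_of_tower]
        exact Submodule.smul_mem_smul ha (hstab g x hx)
      · show ρ g (x + y) ∈ m • L
        rw [map_add]; exact add_mem hx hy
    have := Submodule.eq_bot_of_le_smul_of_le_jacobson_bot m L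
      (Submodule.fg_span (Set.finite_range _)) hle (IsLocalRing.maximalIdeal_le_jacobson ⊥)
    rw [this, Submodule.mem_bot] at hvL
    exact hv hvL
  let act : P →* Module.End B L :=
    { toFun := fun x => ((ρ x).restrictScalars B).restrict (p := L) (q := L) fun u hu => hstab _ u hu
      map_one' := by ext u; simp
      map_mul' := fun x y => LinearMap.ext fun u => Subtype.ext (by
        show ρ ((x * y : P) : G) u.1 = ρ (x : G) (ρ (y : G) u.1)
        simp [map_mul]) }
  have hact : ∀ x : P, ((act x ⟨w, hwL⟩ : L) : V) = ρ x w := fun _ => rfl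
  have hne : ∑ x : P, act x ⟨w, hwL⟩ ∉ (m • ⊤ : Submodule B L) := by
    intro h1
    rw [Submodule.mem_smul_top_iff, AddSubmonoidClass.coe_finsetSum] at h1
    simp only [hact, ← hkey] at h1
    exact hnot (neg_mem_iff.1 h1)
  have hliC : LinearIndependent ℂ (fun x : P => ρ x w) := by
    rw [Fintype.linearIndependent_iff]
    intro c hc
    by_contra hc0
    push Not at hc0
    obtain ⟨x0, hx0⟩ := hc0
    obtain ⟨xm, -, hxm⟩ := Finset.exists_max_image Finset.univ (fun x => B.valuation (c x))
      ⟨x0, Finset.mem_univ _⟩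
    have hcm : c xm ≠ 0 := by
      intro h0
      have := hxm x0 (Finset.mem_univ _)
      rw [h0, map_zero] at this
      exact hx0 ((map_eq_zero _).1 (le_antisymm this zero_le'))
    have hmem : ∀ x, c x / c xm ∈ B := fun x => by
      rw [← B.valuation_le_one_iff, map_div₀, div_le_one₀ (zero_lt_iff.2 ((map_ne_zero _).2 hcm))]
      exact hxm x (Finset.mem_univ _)
    let d : P → B := fun x => ⟨c x / c xm, hmem x⟩
    have hd : ∑ x : P, (d x) • act x ⟨w, hwL⟩ = 0 := by
      apply Subtype.ext
      rw [AddSubmonoidClass.coe_finsetSum, ZeroMemClass.coe_zero]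
      have hx : ∀ x : P, (((d x) • act x ⟨w, hwL⟩ : L) : V) = (c xm)⁻¹ • (c x • ρ x w) :=
        fun x => by
          show (c x / c xm) • ρ x w = _
          rw [smul_smul, div_eq_inv_mul]
      simp only [hx]
      rw [← Finset.smul_sum, hc, smul_zero]
    have := mem_of_sum_smul_eq_zero m hP act ⟨w, hwL⟩ hne d hd xm
    rw [IsLocalRing.mem_maximalIdeal] at this
    exact this (by
      have hd1 : d xm = 1 := Subtype.ext (div_self hcm)
      rw [hd1]; exact isUnit_one)
  exact hliC

/-- A nonzero `H`-fixed vector with zero `G`-sum spans a module of dimension at least `|P|`. -/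
theorem card_le_finrank_span_orbit {G : Type*} [Group G] [Fintype G] {p : ℕ} [Fact p.Prime]
    (P H : Subgroup G) (hP : IsPGroup p P) (hPH : P ≤ H)
    (hsemi : ∀ x ∈ P, x ≠ 1 → ∀ g : G, g⁻¹ * x * g ∈ H → g ∈ H)
    {V : Type*} [AddCommGroup V] [Module ℂ V] [FiniteDimensional ℂ V]
    (ρ : Representation ℂ G V) (v : V) (hv : v ≠ 0) (hfix : ∀ h ∈ H, ρ h v = v)
    (hsum : ∑ g : G, ρ g v = 0) :
    Nat.card P ≤ Module.finrank ℂ (Submodule.span ℂ (Set.range fun g : G => ρ g v)) := by
  classical
  have : Fintype P := Fintype.ofFinite _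
  have : Fintype (G ⧸ H) := Fintype.ofFinite _
  obtain ⟨B, hpB⟩ := exists_valuationSubring_p p
  -- the function on cosets
  let F : G ⧸ H → V := fun q => ρ q.out v
  have hF : ∀ g : G, F (g : G ⧸ H) = ρ g v := by
    intro g
    obtain ⟨h, hh⟩ := QuotientGroup.mk_out_eq_mul H g
    show ρ (Quotient.out (g : G ⧸ H)) v = _
    rw [hh, map_mul, Module.End.mul_apply, hfix h h.2]
  have hsumF : ∑ q : G ⧸ H, F q = 0 := by
    have h1 : ∑ g : G, ρ g v = (Nat.card H : ℂ) • ∑ q : G ⧸ H, F q := by
      rw [← Finset.sum_fiberwise Finset.univ (fun g : G => (g : G ⧸ H)) (fun g => ρ g v),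
        Finset.smul_sum]
      refine Finset.sum_congr rfl fun q _ => ?_
      rw [Finset.sum_congr rfl (g := fun _ => F q) (fun g hg => by
        rw [← (Finset.mem_filter.1 hg).2, hF]), Finset.sum_const, ← Nat.cast_smul_eq_nsmul ℂ]
      congr 2
      rw [← Fintype.card_subtype]
      obtain ⟨g0, rfl⟩ := QuotientGroup.mk_surjective q
      rw [← Nat.card_eq_fintype_card]
      refine Nat.card_congr
        { toFun := fun g => ⟨g0⁻¹ * g.1, ?_⟩
          invFun := fun h => ⟨g0 * h, ?_⟩
          left_inv := fun g => by simp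
          right_inv := fun h => by simp }
      · exact QuotientGroup.eq.1 g.2.symm
      · exact (QuotientGroup.eq.2 (by simp)).symm
    rw [hsum] at h1
    exact (smul_eq_zero.1 h1.symm).resolve_left (Nat.cast_ne_zero.2 Nat.card_pos.ne')
  have hFequiv : ∀ (x : P) (q : G ⧸ H), F (x • q) = ρ x (F q) := by
    intro x q
    obtain ⟨g, rfl⟩ := QuotientGroup.mk_surjective q
    show F (((x : G) * g : G) : G ⧸ H) = _
    rw [hF, hF, map_mul, Module.End.mul_apply]
  -- free orbits
  have hfree : ∀ (x : P) (q : G ⧸ H), q ≠ ((1 : G) : G ⧸ H) → x • q = q → x = 1 := by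
    intro x q hq hxq
    obtain ⟨g, rfl⟩ := QuotientGroup.mk_surjective q
    by_contra hx
    have hxq' : (((x : G) * g : G) : G ⧸ H) = (g : G ⧸ H) := hxq
    rw [QuotientGroup.eq] at hxq'
    have h2 : g⁻¹ * (x : G) * g ∈ H := by
      have := H.inv_mem hxq'
      simpa [mul_assoc] using this
    have hg := hsemi x x.2 (fun he => hx (Subtype.ext he)) g h2
    exact hq (QuotientGroup.eq.2 (by simpa using hg))
  have hbase : ∀ x : P, x • ((1 : G) : G ⧸ H) = ((1 : G) : G ⧸ H) := fun x => by
    show (((x : G) * 1 : G) : G ⧸ H) = _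
    rw [mul_one]
    exact QuotientGroup.eq.2 (by simpa using hPH x.2)
  let R := MulAction.orbitRel.Quotient P (G ⧸ H)
  have : Fintype R := Fintype.ofFinite _
  let b : R := Quotient.mk'' ((1 : G) : G ⧸ H)
  let w : V := ∑ o ∈ Finset.univ.erase b, F o.out
  have hkey : -v = ∑ x : P, ρ x w := by
    have hsplit : ∑ q : G ⧸ H, F q =
        F ((1 : G) : G ⧸ H) + ∑ q ∈ Finset.univ.erase ((1 : G) : G ⧸ H), F q :=
      (Finset.add_sum_erase _ _ (Finset.mem_univ _)).symm
    rw [hsumF, hF, map_one, Module.End.one_apply] at hsplit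
    have h2 : ∑ q ∈ Finset.univ.erase ((1 : G) : G ⧸ H), F q
        = ∑ z ∈ (Finset.univ : Finset P) ×ˢ (Finset.univ.erase b), F (z.1 • z.2.out) := by
      have houtne : ∀ o : R, o ≠ b → o.out ≠ ((1 : G) : G ⧸ H) := fun o ho he =>
        ho (by rw [← Quotient.out_eq' o, he])
      refine (Finset.sum_bij (fun z _ => z.1 • z.2.out) ?_ ?_ ?_ (fun z _ => rfl)).symm
      · intro z hz
        simp only [Finset.mem_product, Finset.mem_erase, Finset.mem_univ, true_and, and_true] at hz
        simp only [Finset.mem_erase, Finset.mem_univ, and_true]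
        intro he
        refine houtne _ hz ?_
        rw [← hbase z.1⁻¹, ← he, inv_smul_smul]
      · rintro ⟨x, o⟩ ho ⟨y, o'⟩ - he
        simp only [Finset.mem_product, Finset.mem_erase, Finset.mem_univ, true_and, and_true] at ho
        have hoo : o = o' := by
          rw [← Quotient.out_eq' o, ← Quotient.out_eq' o']
          refine Quotient.sound' ?_
          refine MulAction.orbitRel_apply.2 ⟨x⁻¹ * y, ?_⟩
          show (x⁻¹ * y) • o'.out = o.out
          rw [mul_smul, ← he, inv_smul_smul]
        subst hoo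
        have := hfree (x⁻¹ * y) o.out (houtne o ho) (by rw [mul_smul, ← he, inv_smul_smul])
        rw [inv_mul_eq_one] at this
        rw [this]
      · intro q hq
        simp only [Finset.mem_erase, Finset.mem_univ, and_true] at hq
        obtain ⟨x, hx⟩ : ∃ x : P, x • (Quotient.mk'' q : R).out = q :=
          MulAction.orbitRel_apply.1 ((MulAction.orbitRel P (G ⧸ H)).symm (Quotient.mk_out' (s₁ := MulAction.orbitRel P (G ⧸ H)) q))
        refine ⟨(x, Quotient.mk'' q), ?_, hx⟩
        simp only [Finset.mem_product, Finset.mem_erase, Finset.mem_univ, true_and, and_true]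
        intro he
        obtain ⟨y, hy⟩ := MulAction.orbitRel_apply.1 (Quotient.exact' he)
        exact hq (hy.symm.trans (hbase y))
    rw [h2, Finset.sum_product] at hsplit
    simp only [hFequiv] at hsplit
    simp only [w, map_sum]
    exact neg_eq_of_add_eq_zero_right hsplit.symm
  have hli : LinearIndependent ℂ (fun x : P => ρ x w) :=
    linearIndependent_translates B hpB P hP ρ v w hv hkey
      (sum_mem fun o _ => Submodule.subset_span ⟨_, rfl⟩)
  have hle : Submodule.span ℂ (Set.range fun x : P => ρ x w) ≤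
      Submodule.span ℂ (Set.range fun g : G => ρ g v) := by
    refine Submodule.span_le.2 ?_
    rintro _ ⟨x, rfl⟩
    show ρ x w ∈ _
    simp only [w, map_sum]
    refine sum_mem fun o _ => ?_
    rw [← hFequiv]
    exact Submodule.subset_span ⟨_, rfl⟩
  calc Nat.card P = Fintype.card P := Nat.card_eq_fintype_card
    _ = Module.finrank ℂ (Submodule.span ℂ (Set.range fun x : P => ρ x w)) :=
        (finrank_span_eq_card hli).symm
    _ ≤ _ := Submodule.finrank_mono hle

end CfsgLib.TILattice
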